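import Groth.Agent.Dix.RegTwoDim
import Groth.Agent.CurvesC.QuadLen
import Groth.Agent.Models.K399.TBase

/-!
# Automorphisms of two-dimensional regular local rings, I: the twisted derivation

An automorphism `σ` of a domain with `σ a = a + c * D a` gives a twisted derivation `D`.
-/

set_option autoImplicit false
set_option linter.unusedSectionVars false
universe u

open IsLocalRing
open Groth.Agent.Models.K399.TBase

namespace Groth.Agent.Models.K804.LocDer

variable {A : Type u} [CommRing A]

/-- `σ a = a + c * D a`. -/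
structure Der (σ : A →+* A) (c : A) (D : A → A) : Prop where
  c0 : c ≠ 0
  eq : ∀ a, σ a = a + c * D a

/-- The ideal generated by the values of `D`. -/
def J (D : A → A) : Ideal A := Ideal.span (Set.range D)

theorem mem_J (D : A → A) (a : A) : D a ∈ J D := Ideal.subset_span ⟨a, rfl⟩

namespace Der

variable {σ : A →+* A} {c : A} {D : A → A}

section Dom

variable [IsDomain A] (h : Der σ c D)
include h

theorem cancel {a b : A} (hab : c * a = c * b) : a = b := mul_left_cancel₀ h.c0 hab

theorem add (a b : A) : D (a + b) = D a + D b := by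
  apply h.cancel
  have h1 := h.eq (a + b)
  rw [map_add, h.eq, h.eq] at h1
  linear_combination -h1

theorem mul (a b : A) : D (a * b) = D a * b + σ a * D b := by
  apply h.cancel
  have h1 := h.eq (a * b)
  rw [map_mul, h.eq b] at h1
  have h2 := h.eq a
  linear_combination -h1 + b * h2

theorem sig_c : σ c = c * (1 + D c) := by
  rw [h.eq c]; ring

theorem zero : D 0 = 0 := by
  have := h.add 0 0
  rw [add_zero] at this
  linear_combination -this

theorem one : D 1 = 0 := by
  have := h.mul 1 1
  rw [mul_one, map_one] at this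
  linear_combination -this

theorem neg (a : A) : D (-a) = - D a := by
  have := h.add a (-a)
  rw [add_neg_cancel, h.zero] at this
  linear_combination -this

theorem sub (a b : A) : D (a - b) = D a - D b := by
  rw [sub_eq_add_neg, h.add, h.neg, sub_eq_add_neg]

theorem fix {a : A} : σ a = a ↔ D a = 0 := by
  rw [h.eq a]
  constructor
  · intro h1
    have h2 : c * D a = 0 := by linear_combination h1
    exact (mul_eq_zero.mp h2).resolve_left h.c0
  · intro h1
    rw [h1, mul_zero, add_zero]

theorem fixmul {q : A} (hq : σ q = q) (a : A) : D (q * a) = q * D a := by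
  rw [h.mul, h.fix.mp hq, hq, zero_mul, zero_add]

theorem aug_eq : aug σ = Ideal.span {c} * J D := by
  rw [aug, J, Ideal.span_mul_span']
  congr 1
  ext z
  simp only [Set.mem_range, Set.singleton_mul, Set.mem_image, exists_exists_eq_and]
  constructor
  · rintro ⟨a, rfl⟩
    exact ⟨a, by rw [h.eq a]; ring⟩
  · rintro ⟨a, rfl⟩
    exact ⟨a, by rw [h.eq a]; ring⟩

theorem principal (hJ : (J D).IsPrincipal) : (aug σ).IsPrincipal := by
  obtain ⟨j, hj⟩ := hJ
  refine ⟨c * j, ?_⟩
  rw [h.aug_eq, hj, Ideal.submodule_span_eq, Ideal.submodule_span_eq, Ideal.span_singleton_mul_span_singleton]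

end Dom

section Loc

variable [IsDomain A] [IsLocalRing A] (h : Der σ c D) (hm : J D ≤ maximalIdeal A)
include h hm

theorem Dmem (a : A) : D a ∈ maximalIdeal A := hm (mem_J D a)

theorem sub_mem (a : A) : σ a - a ∈ maximalIdeal A := by
  rw [h.eq a, add_sub_cancel_left]
  exact Ideal.mul_mem_left _ _ (h.Dmem hm a)

theorem sig_mem {a : A} (ha : a ∈ maximalIdeal A) : σ a ∈ maximalIdeal A := by
  have := add_mem (h.sub_mem hm a) ha
  rwa [sub_add_cancel] at this

theorem sig_mem_iff {a : A} : σ a ∈ maximalIdeal A ↔ a ∈ maximalIdeal A := by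
  refine ⟨fun ha => ?_, h.sig_mem hm⟩
  have := Ideal.sub_mem _ ha (h.sub_mem hm a)
  rwa [sub_sub_cancel] at this

omit h in
theorem unit_one_add {a : A} : IsUnit (1 + D a) := by
  by_contra h1
  have h2 : 1 + D a ∈ maximalIdeal A := h1
  have h3 := Ideal.sub_mem _ h2 (hm (mem_J D a))
  rw [add_sub_cancel_right] at h3
  exact (Ideal.ne_top_iff_one _).mp (IsLocalRing.maximalIdeal.isMaximal A).ne_top h3

/-- `D (a * z) - a * D z ∈ m * J` for `z ∈ m`. -/
theorem D_smul_sub (a : A) {z : A} (hz : z ∈ maximalIdeal A) :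
    D (a * z) - a * D z ∈ maximalIdeal A * J D := by
  rw [h.mul]
  have : D a * z + σ a * D z - a * D z = z * D a + (σ a - a) * D z := by ring
  rw [this]
  exact add_mem (Ideal.mul_mem_mul hz (mem_J D a)) (Ideal.mul_mem_mul (h.sub_mem hm a) (mem_J D z))

theorem D_comb {x y : A} (hx : x ∈ maximalIdeal A) (hy : y ∈ maximalIdeal A) (a b : A) :
    D (a * x + b * y) - (a * D x + b * D y) ∈ maximalIdeal A * J D := by
  rw [h.add]
  have : D (a * x) + D (b * y) - (a * D x + b * D y) = (D (a * x) - a * D x) + (D (b * y) - b * D y) := by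
    ring
  rw [this]
  exact add_mem (h.D_smul_sub hm a hx) (h.D_smul_sub hm b hy)

/-- `D (m ^ (r + 1)) ⊆ m ^ r * J`. -/
theorem D_pow (r : ℕ) : ∀ z ∈ maximalIdeal A ^ (r + 1), D z ∈ maximalIdeal A ^ r * J D := by
  induction r with
  | zero => intro z _; rw [pow_zero, one_mul]; exact mem_J D z
  | succ r ih =>
    intro z hz
    rw [pow_succ] at hz
    refine Submodule.smul_induction_on (p := fun z => D z ∈ maximalIdeal A ^ (r + 1) * J D) hz
      (fun a ha b hb => ?_) (fun a b ha hb => ?_)
    · rw [smul_eq_mul, h.mul]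
      have h1 := Ideal.mul_mem_mul hb (ih a ha)
      rw [← mul_assoc, ← pow_succ'] at h1
      refine add_mem (by rw [mul_comm (D a)]; exact h1) (Ideal.mul_mem_mul ?_ (mem_J D b))
      rw [h.eq a]
      refine add_mem ha (Ideal.mul_mem_left _ _ ?_)
      have h2 : maximalIdeal A ^ r * J D ≤ maximalIdeal A ^ (r + 1) := by
        rw [pow_succ]; exact Ideal.mul_mono_right hm
      exact h2 (ih a ha)
    · rw [h.add]; exact add_mem ha hb

/-- `D (m * J) ⊆ m * J`. -/
theorem D_mJ : ∀ z ∈ maximalIdeal A * J D, D z ∈ maximalIdeal A * J D := by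
  intro z hz
  refine Submodule.smul_induction_on (p := fun z => D z ∈ maximalIdeal A * J D) hz
      (fun a ha b hb => ?_) (fun a b ha hb => ?_)
  · rw [smul_eq_mul, h.mul]
    exact add_mem (Ideal.mul_mem_mul (h.Dmem hm a) hb) (Ideal.mul_mem_mul (h.sig_mem hm ha) (mem_J D b))
  · rw [h.add]; exact add_mem ha hb

/-- `D (a * z) - a * D z ∈ m * J` for `z ∈ J`. -/
theorem D_smul_J (a : A) {z : A} (hz : z ∈ J D) :
    D (a * z) - a * D z ∈ maximalIdeal A * J D := h.D_smul_sub hm a (hm hz)

end Loc

section Two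

variable [IsDomain A] [IsLocalRing A] [IsNoetherianRing A] (h : Der σ c D) (hm : J D ≤ maximalIdeal A)
  (hfix : ∀ a, ∃ b, σ b = b ∧ a - b ∈ maximalIdeal A) {x y : A} (hxy : maximalIdeal A = Ideal.span {x, y})

include hxy in
omit [IsDomain A] [IsNoetherianRing A] in
theorem xmem : x ∈ maximalIdeal A := by rw [hxy]; exact Ideal.subset_span (by simp)

include hxy in
omit [IsDomain A] [IsNoetherianRing A] in
theorem ymem : y ∈ maximalIdeal A := by rw [hxy]; exact Ideal.subset_span (by simp)

include h hm hfix hxy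

theorem J_eq : J D = Ideal.span {D x, D y} := by
  have hxm : x ∈ maximalIdeal A := xmem hxy
  have hym : y ∈ maximalIdeal A := ymem hxy
  apply le_antisymm
  · apply Submodule.le_of_le_smul_of_le_jacobson_bot (I := maximalIdeal A) (J D).fg_of_isNoetherianRing
    · rw [IsLocalRing.jacobson_eq_maximalIdeal _ bot_ne_top]
    · have hle : ∀ K : Ideal A, (∀ a, D a ∈ K) → J D ≤ K := by
        intro K hK
        rw [J, Ideal.span_le]
        rintro _ ⟨a, rfl⟩
        exact hK a
      apply hle
      intro a
      obtain ⟨b, hb, hab⟩ := hfix a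
      have h1 : D a = D (a - b) := by rw [h.sub, h.fix.mp hb, sub_zero]
      rw [hxy] at hab
      obtain ⟨p, q, hpq⟩ := Ideal.mem_span_pair.mp hab
      have h2 := h.D_comb hm hxm hym p q
      rw [hpq, ← h1] at h2
      have h3 : p * D x + q * D y ∈ Ideal.span {D x, D y} := Ideal.mem_span_pair.mpr ⟨p, q, rfl⟩
      have h4 := add_mem (Submodule.mem_sup_right h2) (Submodule.mem_sup_left h3)
      rw [sub_add_cancel] at h4
      exact h4
  · rw [Ideal.span_le]
    rintro _ (rfl | rfl)
    · exact mem_J D x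
    · exact mem_J D y

variable (hnp : ¬ (J D).IsPrincipal)
include hnp

theorem indep {a b : A} (hab : a * D x + b * D y ∈ maximalIdeal A * J D) :
    a ∈ maximalIdeal A ∧ b ∈ maximalIdeal A := by
  have hJ := h.J_eq hm hfix hxy
  constructor
  · by_contra ha
    have hu : IsUnit a := by simpa using ha
    obtain ⟨v, hv⟩ := hu.exists_left_inv
    apply hnp
    refine ⟨D y, ?_⟩
    rw [Ideal.submodule_span_eq]
    apply le_antisymm
    · apply Submodule.le_of_le_smul_of_le_jacobson_bot (I := maximalIdeal A) (J D).fg_of_isNoetherianRing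
      · rw [IsLocalRing.jacobson_eq_maximalIdeal _ bot_ne_top]
      · refine hJ.le.trans ?_
        rw [Ideal.span_le]
        rintro _ (rfl | rfl)
        · have h1 : D x = v * (a * D x + b * D y) - v * b * D y := by linear_combination (- D x) * hv
          rw [SetLike.mem_coe, h1]
          exact Ideal.sub_mem _ (Submodule.mem_sup_right (Ideal.mul_mem_left _ _ hab))
            (Submodule.mem_sup_left (Ideal.mul_mem_left _ _ (Ideal.mem_span_singleton_self _)))
        · exact Submodule.mem_sup_left (Ideal.mem_span_singleton_self _)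
    · exact (Ideal.span_singleton_le_iff_mem _).mpr (mem_J D y)
  · by_contra ha
    have hu : IsUnit b := by simpa using ha
    obtain ⟨v, hv⟩ := hu.exists_left_inv
    apply hnp
    refine ⟨D x, ?_⟩
    rw [Ideal.submodule_span_eq]
    apply le_antisymm
    · apply Submodule.le_of_le_smul_of_le_jacobson_bot (I := maximalIdeal A) (J D).fg_of_isNoetherianRing
      · rw [IsLocalRing.jacobson_eq_maximalIdeal _ bot_ne_top]
      · refine hJ.le.trans ?_
        rw [Ideal.span_le]
        rintro _ (rfl | rfl)
        · exact Submodule.mem_sup_left (Ideal.mem_span_singleton_self _)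
        · have h1 : D y = v * (a * D x + b * D y) - v * a * D x := by linear_combination (- D y) * hv
          rw [SetLike.mem_coe, h1]
          exact Ideal.sub_mem _ (Submodule.mem_sup_right (Ideal.mul_mem_left _ _ hab))
            (Submodule.mem_sup_left (Ideal.mul_mem_left _ _ (Ideal.mem_span_singleton_self _)))
    · exact (Ideal.span_singleton_le_iff_mem _).mpr (mem_J D x)

/-- (D1) -/
theorem mem_sq {z : A} (hz : z ∈ maximalIdeal A) (hDz : D z ∈ maximalIdeal A * J D) :
    z ∈ maximalIdeal A ^ 2 := by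
  have hz' := hz
  rw [hxy] at hz
  obtain ⟨p, q, hpq⟩ := Ideal.mem_span_pair.mp hz
  have h2 := h.D_comb hm (xmem hxy) (ymem hxy) p q
  rw [hpq] at h2
  have h3 := Ideal.sub_mem _ hDz h2
  rw [sub_sub_cancel] at h3
  obtain ⟨hp, hq⟩ := h.indep hm hfix hxy hnp h3
  rw [← hpq, pow_two]
  exact add_mem (Ideal.mul_mem_mul hp (xmem hxy)) (Ideal.mul_mem_mul hq (ymem hxy))

/-- If `J ∩ m² ⊆ m J` then `J = m`. -/
theorem J_eq_max (hJ2 : ∀ z ∈ J D, z ∈ maximalIdeal A ^ 2 → z ∈ maximalIdeal A * J D) : J D = maximalIdeal A := by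
  have hxm : x ∈ maximalIdeal A := xmem hxy
  have hym : y ∈ maximalIdeal A := ymem hxy
  have hDx := h.Dmem hm x
  have hDy := h.Dmem hm y
  have hDx' := hDx
  have hDy' := hDy
  rw [hxy] at hDx' hDy'
  obtain ⟨a, b, hab⟩ := Ideal.mem_span_pair.mp hDx'
  obtain ⟨a', b', hab'⟩ := Ideal.mem_span_pair.mp hDy'
  have key : ∀ p q : A, p * D x + q * D y ∈ maximalIdeal A ^ 2 → p ∈ maximalIdeal A ∧ q ∈ maximalIdeal A := by
    intro p q hpq
    refine h.indep hm hfix hxy hnp (hJ2 _ ?_ hpq)
    exact add_mem (Ideal.mul_mem_left _ _ (mem_J D x)) (Ideal.mul_mem_left _ _ (mem_J D y))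
  have hdet : IsUnit (a * b' - a' * b) := by
    by_contra hd
    have hd' : a * b' - a' * b ∈ maximalIdeal A := hd
    have h1 : b' * D x + (-b) * D y ∈ maximalIdeal A ^ 2 := by
      have : b' * D x + (-b) * D y = (a * b' - a' * b) * x := by rw [← hab, ← hab']; ring
      rw [this, pow_two]; exact Ideal.mul_mem_mul hd' hxm
    have h2 : (-a') * D x + a * D y ∈ maximalIdeal A ^ 2 := by
      have : (-a') * D x + a * D y = (a * b' - a' * b) * y := by rw [← hab, ← hab']; ring
      rw [this, pow_two]; exact Ideal.mul_mem_mul hd' hym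
    have h3 := key _ _ h1
    have h4 := key _ _ h2
    have h5 : (1 : A) * D x + 0 * D y ∈ maximalIdeal A ^ 2 := by
      have : (1 : A) * D x + 0 * D y = a * x + b * y := by rw [hab]; ring
      rw [this, pow_two]
      refine add_mem (Ideal.mul_mem_mul h4.2 hxm) (Ideal.mul_mem_mul ?_ hym)
      have := h3.2; rwa [neg_mem_iff] at this
    exact (Ideal.ne_top_iff_one _).mp (IsLocalRing.maximalIdeal.isMaximal A).ne_top (key _ _ h5).1
  obtain ⟨v, hv⟩ := hdet.exists_left_inv
  refine le_antisymm hm ?_
  have hle : ∀ K : Ideal A, x ∈ K → y ∈ K → maximalIdeal A ≤ K := by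
    intro K h1 h2
    rw [hxy, Ideal.span_le]
    rintro _ (rfl | rfl)
    · exact h1
    · exact h2
  apply hle
  · have : x = v * (b' * D x - b * D y) := by
      rw [← hab, ← hab']
      linear_combination (-x) * hv
    rw [this]
    exact Ideal.mul_mem_left _ _ (Ideal.sub_mem _ (Ideal.mul_mem_left _ _ (mem_J D x)) (Ideal.mul_mem_left _ _ (mem_J D y)))
  · have : y = v * (a * D y - a' * D x) := by
      rw [← hab, ← hab']
      linear_combination (-y) * hv
    rw [this]
    exact Ideal.mul_mem_left _ _ (Ideal.sub_mem _ (Ideal.mul_mem_left _ _ (mem_J D y)) (Ideal.mul_mem_left _ _ (mem_J D x)))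

end Two

end Der

end Groth.Agent.Models.K804.LocDer
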