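import Groth.Agent.Models.K804.LocDer
import Mathlib.Tactic.LinearCombination
import Mathlib.Algebra.GCDMonoid.Basic
import Mathlib.RingTheory.UniqueFactorizationDomain.GCDMonoid

/-!
# Automorphisms of two-dimensional regular local rings, II: orders two and three
-/

set_option autoImplicit false
set_option linter.unusedSectionVars false
set_option linter.overlappingInstances false
universe u

open IsLocalRing
open Groth.Agent.Models.K399.TBase Groth.Agent.Models.K804.LocDer

namespace Groth.Agent.Models.K804.LocEll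

variable {A : Type u} [CommRing A]

theorem not_one_mem [IsLocalRing A] : (1 : A) ∉ maximalIdeal A :=
  (Ideal.ne_top_iff_one _).mp (IsLocalRing.maximalIdeal.isMaximal A).ne_top

/-- Standing data. -/
structure Std [IsLocalRing A] (ℓ : ℕ) (σ : A →+* A) (c : A) (D : A → A) : Prop where
  pt : Pt ℓ σ
  der : Der σ c D
  fin : Module.length A (A ⧸ J D) ≠ ⊤
  nt : J D ≤ maximalIdeal A
  np : ¬ (J D).IsPrincipal

/-- Coprimality. -/
theorem cop_aux [IsDomain A] [IsLocalRing A] (hreg : IsRegularLocalRing A) (hdim : ringKrullDim A = 2) {I : Ideal A} {N : ℕ}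
    (hN : maximalIdeal A ^ N ≤ I) {c a : A} (h : ∀ j ∈ I, c ∣ a * j) : c ∣ a := by
  classical
  obtain ⟨x, y, hxy⟩ := Dix.RegTwoDim.exists_span_pair hdim
  obtain ⟨hpx, hd⟩ := Dix.RegTwoDim.prime_and_not_dvd hdim x y hxy
  have := Dix.RegTwoDim.ufd hdim.le
  let _ := UniqueFactorizationMonoid.toGCDMonoid A
  have h1 : c ∣ a * x ^ N := h _ (hN (Ideal.pow_mem_pow (Der.xmem hxy) N))
  have h2 : c ∣ a * y ^ N := h _ (hN (Ideal.pow_mem_pow (Der.ymem hxy) N))
  have h3 : IsRelPrime x y := (hpx.irreducible.isRelPrime_iff_not_dvd).mpr hd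
  have h4 : IsUnit (gcd (x ^ N) (y ^ N)) := gcd_isUnit_iff_isRelPrime.mpr h3.pow
  have h5 : c ∣ gcd (a * x ^ N) (a * y ^ N) := dvd_gcd h1 h2
  have h6 := (gcd_mul_left' a (x ^ N) (y ^ N)).dvd
  have h7 := h5.trans h6
  exact (h4.dvd_mul_right).mp h7

theorem Std.cop [IsLocalRing A] [IsDomain A] {ℓ : ℕ} {σ : A →+* A} {c : A} {D : A → A} (h : Std ℓ σ c D) {a : A}
    (ha : ∀ b, c ∣ a * D b) : c ∣ a := by
  obtain ⟨N, hN⟩ := CurvesC.QuadLen.exists_pow_le (J D) h.fin
  refine cop_aux h.pt.reg h.pt.dim hN fun j hj => ?_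
  refine Submodule.span_induction (p := fun j _ => c ∣ a * j) ?_ ?_ ?_ ?_ hj
  · rintro _ ⟨b, rfl⟩; exact ha b
  · rw [mul_zero]; exact dvd_zero _
  · intro x y _ _ hx hy; rw [mul_add]; exact dvd_add hx hy
  · intro r x _ hx
    rw [smul_eq_mul, show a * (r * x) = a * x * r by ring]
    exact hx.mul_right r

/-- Fixed elements, order two. -/
theorem fix_two [IsLocalRing A] {σ : A →+* A} (h : Pt 2 σ) (hs : ∀ a, σ a - a ∈ maximalIdeal A) (a : A) :
    ∃ b, σ b = b ∧ a - b ∈ maximalIdeal A := by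
  have hσ : ∀ a, σ (σ a) = a := fun a => h.pow a
  by_cases h2 : IsUnit (2 : A)
  · obtain ⟨v, hv⟩ := h2.exists_left_inv
    have hv' : σ v = v := by
      have h3 : σ v * 2 = 1 := by rw [← map_ofNat σ 2, ← map_mul, hv, map_one]
      calc σ v = σ v * (v * 2) := by rw [hv, mul_one]
        _ = v * (σ v * 2) := by ring
        _ = v := by rw [h3, mul_one]
    refine ⟨v * (a + σ a), ?_, ?_⟩
    · rw [map_mul, map_add, hσ, hv', add_comm]
    · have : a - v * (a + σ a) = -v * (σ a - a) := by linear_combination (-a) * hv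
      rw [this]
      exact Ideal.mul_mem_left _ _ (hs a)
  · have h3 : (2 : A) ∈ maximalIdeal A := h2
    have h4 : ((2 : ℕ) : ResidueField A) = 0 := by
      rw [← map_natCast (residue A), Nat.cast_ofNat, residue_eq_zero_iff]; exact h3
    have : Fact (Nat.Prime 2) := ⟨Nat.prime_two⟩
    have : CharP (ResidueField A) 2 := (CharP.charP_iff_prime_eq_zero Nat.prime_two).mpr h4
    have := h.perf
    have : ExpChar (ResidueField A) 2 := ExpChar.prime Nat.prime_two
    have : PerfectRing (ResidueField A) 2 := PerfectField.toPerfectRing 2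
    obtain ⟨β, hβ⟩ := (PerfectRing.bijective_frobenius (R := ResidueField A) (p := 2)).2 (residue A a)
    obtain ⟨α, rfl⟩ := residue_surjective β
    change residue A α ^ 2 = residue A a at hβ
    rw [← map_pow, ← sub_eq_zero, ← map_sub, residue_eq_zero_iff] at hβ
    refine ⟨α * σ α, ?_, ?_⟩
    · rw [map_mul, hσ, mul_comm]
    · have : a - α * σ α = -(α ^ 2 - a) - α * (σ α - α) := by ring
      rw [this]
      exact Ideal.sub_mem _ (neg_mem hβ) (Ideal.mul_mem_left _ _ (hs α))

/-- Fixed elements, order three. -/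
theorem fix_three [IsLocalRing A] {σ : A →+* A} (h : Pt 3 σ) (hs : ∀ a, σ a - a ∈ maximalIdeal A) (a : A) :
    ∃ b, σ b = b ∧ a - b ∈ maximalIdeal A := by
  have hσ : ∀ a, σ (σ (σ a)) = a := fun a => h.pow a
  have hs2 : ∀ a, σ (σ a) - a ∈ maximalIdeal A := fun a => by
    have := add_mem (hs (σ a)) (hs a)
    rwa [sub_add_sub_cancel] at this
  by_cases h2 : IsUnit (3 : A)
  · obtain ⟨v, hv⟩ := h2.exists_left_inv
    have hv' : σ v = v := by
      have h3 : σ v * 3 = 1 := by rw [← map_ofNat σ 3, ← map_mul, hv, map_one]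
      calc σ v = σ v * (v * 3) := by rw [hv, mul_one]
        _ = v * (σ v * 3) := by ring
        _ = v := by rw [h3, mul_one]
    refine ⟨v * (a + σ a + σ (σ a)), ?_, ?_⟩
    · rw [map_mul, map_add, map_add, hσ, hv']; ring
    · have : a - v * (a + σ a + σ (σ a)) = -v * (σ a - a) - v * (σ (σ a) - a) := by
        linear_combination (-a) * hv
      rw [this]
      exact Ideal.sub_mem _ (Ideal.mul_mem_left _ _ (hs a)) (Ideal.mul_mem_left _ _ (hs2 a))
  · have h3 : (3 : A) ∈ maximalIdeal A := h2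
    have h4 : ((3 : ℕ) : ResidueField A) = 0 := by
      rw [← map_natCast (residue A), Nat.cast_ofNat, residue_eq_zero_iff]; exact h3
    have : Fact (Nat.Prime 3) := ⟨Nat.prime_three⟩
    have : CharP (ResidueField A) 3 := (CharP.charP_iff_prime_eq_zero Nat.prime_three).mpr h4
    have := h.perf
    have : ExpChar (ResidueField A) 3 := ExpChar.prime Nat.prime_three
    have : PerfectRing (ResidueField A) 3 := PerfectField.toPerfectRing 3
    obtain ⟨β, hβ⟩ := (PerfectRing.bijective_frobenius (R := ResidueField A) (p := 3)).2 (residue A a)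
    obtain ⟨α, rfl⟩ := residue_surjective β
    change residue A α ^ 3 = residue A a at hβ
    rw [← map_pow, ← sub_eq_zero, ← map_sub, residue_eq_zero_iff] at hβ
    refine ⟨α * σ α * σ (σ α), ?_, ?_⟩
    · rw [map_mul, map_mul, hσ]; ring
    · have : a - α * σ α * σ (σ α) = -(α ^ 3 - a) - α * σ α * (σ (σ α) - α) - α ^ 2 * (σ α - α) := by ring
      rw [this]
      exact Ideal.sub_mem _ (Ideal.sub_mem _ (neg_mem hβ) (Ideal.mul_mem_left _ _ (hs2 α)))
        (Ideal.mul_mem_left _ _ (hs α))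

section two

variable [IsLocalRing A] [IsDomain A] {σ : A →+* A} {c : A} {D : A → A}

theorem two_h (h : Std 2 σ c D) : ∃ e, ∀ a, D (D a) = e * D a := by
  have hd := h.der
  have key : ∀ a, (1 + (1 + D c)) * D a + c * ((1 + D c) * D (D a)) = 0 := by
    intro a
    have h1 : σ (σ a) = a := h.pt.pow a
    rw [hd.eq a, map_add, map_mul, hd.sig_c, hd.eq a, hd.eq (D a)] at h1
    apply hd.cancel
    linear_combination h1
  have h2 : c ∣ 1 + (1 + D c) := by
    refine h.cop fun b => ⟨-((1 + D c) * D (D b)), ?_⟩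
    linear_combination key b
  obtain ⟨P, hP⟩ := h2
  obtain ⟨v, hv⟩ := (Der.unit_one_add h.nt (a := c)).exists_left_inv
  refine ⟨-v * P, fun a => ?_⟩
  have h3 : P * D a + (1 + D c) * D (D a) = 0 := by
    apply hd.cancel
    linear_combination key a - D a * hP
  linear_combination v * h3 - D (D a) * hv

end two

section three

variable [IsDomain A] {σ : A →+* A} {c : A} {D : A → A}

/-- `σ c / c`. -/
def U0 (c : A) (D : A → A) : A := 1 + D c
/-- `σ² c / σ c`. -/
def U1 (c : A) (D : A → A) : A := 1 + D c + c * D (D c)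
/-- `σ³ c / σ² c`. -/
def U2 (c : A) (D : A → A) : A := U1 c D + c * D (U1 c D)
/-- the coefficient `q`. -/
def Q (c : A) (D : A → A) (P : A) : A := -(c * P + D (D c)) * U2 c D
/-- the coefficient `s`. -/
def S (c : A) (D : A → A) (P : A) : A := -P * U1 c D * U2 c D ^ 2

theorem sig0 (hd : Der σ c D) : σ (U0 c D) = U1 c D := by
  rw [U0, U1, map_add, map_one, hd.eq (D c)]; ring

theorem sig1 (hd : Der σ c D) : σ (U1 c D) = U2 c D := hd.eq _

theorem sigc (hd : Der σ c D) : σ c = c * U0 c D := hd.sig_c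

variable (hd : Der σ c D) (hσ : ∀ a, σ (σ (σ a)) = a)
include hd hσ

theorem prodU : U0 c D * U1 c D * U2 c D = 1 := by
  apply hd.cancel
  have h1 := hσ c
  rw [sigc hd, map_mul, sigc hd, sig0 hd, map_mul, map_mul, sigc hd, sig0 hd, sig1 hd] at h1
  linear_combination h1

theorem sig2 : σ (U2 c D) = U0 c D := by
  have h1 := prodU hd hσ
  have h2 := congrArg σ h1
  rw [map_mul, map_mul, sig0 hd, sig1 hd, map_one] at h2
  linear_combination U0 c D * h2 - σ (U2 c D) * h1

theorem key3 (a : A) : D a * (1 + U0 c D + U0 c D * U1 c D) +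
    D (D a) * (c * U0 c D * (1 + U1 c D + U0 c D * U1 c D)) + D (D (D a)) * (c ^ 2 * U0 c D ^ 2 * U1 c D) = 0 := by
  apply hd.cancel
  have h1 := hσ a
  have e1 := hd.eq a
  have e2 := hd.eq (D a)
  have e3 := hd.eq (D (D a))
  have e0 := sigc hd
  have e00 := sig0 hd
  have s2 : σ (σ a) = a + c * D a + c * U0 c D * (D a + c * D (D a)) := by
    rw [e1, map_add, map_mul, e1, e2, e0]
  rw [s2] at h1
  simp only [map_add, map_mul] at h1
  rw [e1, e2, e3, e0, e00] at h1
  linear_combination h1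

variable {P : A} (hP : 1 + U0 c D + U0 c D * U1 c D = c ^ 2 * P)
include hP

theorem three_eq (a : A) : D (D (D a)) = Q c D P * D (D a) + S c D P * D a := by
  have h1 := key3 hd hσ a
  have h2 := prodU hd hσ
  have h3 : D a * P + D (D a) * (U0 c D * (c * P + D (D c))) + D (D (D a)) * (U0 c D ^ 2 * U1 c D) = 0 := by
    apply hd.cancel
    apply hd.cancel
    have h4 : U1 c D = U0 c D + c * D (D c) := rfl
    linear_combination h1 + (-(D a) - D (D a) * c * U0 c D) * hP - D (D a) * c * U0 c D * h4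
  rw [Q, S]
  linear_combination U1 c D * U2 c D ^ 2 * h3 +
    (- (D (D a)) * (c * P + D (D c)) * U2 c D - D (D (D a)) * (U0 c D * U1 c D * U2 c D + 1)) * h2

theorem sigP : U0 c D ^ 3 * σ P = P := by
  apply hd.cancel
  apply hd.cancel
  have h1 := congrArg σ hP
  rw [map_add, map_add, map_mul, map_mul, map_pow, map_one, sig0 hd, sig1 hd, sigc hd] at h1
  have h2 := prodU hd hσ
  linear_combination - U0 c D * h1 + hP + h2

theorem sigS : σ (S c D P) = S c D P := by
  have h1 := sigP hd hσ hP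
  have h2 := prodU hd hσ
  rw [S, map_mul, map_mul, map_neg, map_pow, sig1 hd, sig2 hd hσ]
  linear_combination (- U1 c D * U2 c D ^ 2) * h1 + (U0 c D ^ 2 * U2 c D * σ P) * h2

theorem sigQ : σ (Q c D P) = Q c D P := by
  apply hd.cancel
  have h1 := congrArg σ hP
  rw [map_add, map_add, map_mul, map_mul, map_pow, map_one, sig0 hd, sig1 hd, sigc hd] at h1
  have h2 := prodU hd hσ
  have h3 : U1 c D = U0 c D + c * D (D c) := rfl
  have h4 := congrArg σ h3
  rw [map_add, map_mul, sig0 hd, sig1 hd, sigc hd] at h4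
  rw [Q, map_mul, map_neg, map_add, map_mul, sigc hd, sig2 hd hσ]
  linear_combination h1 + h4 - U2 c D * hP - U2 c D * h3 + h2

end three

section threeStd

variable [IsLocalRing A] [IsDomain A] {σ : A →+* A} {c : A} {D : A → A}

theorem three_P (h : Std 3 σ c D) : ∃ P, 1 + U0 c D + U0 c D * U1 c D = c ^ 2 * P := by
  have hd := h.der
  have hσ : ∀ a, σ (σ (σ a)) = a := fun a => h.pt.pow a
  have h1 := key3 hd hσ
  obtain ⟨P1, hP1⟩ : c ∣ 1 + U0 c D + U0 c D * U1 c D := by
    refine h.cop fun b => ⟨-(D (D b) * (U0 c D * (1 + U1 c D + U0 c D * U1 c D)) +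
      D (D (D b)) * (c * U0 c D ^ 2 * U1 c D)), ?_⟩
    linear_combination h1 b
  have h4 : U1 c D = U0 c D + c * D (D c) := rfl
  obtain ⟨P, hP⟩ : c ∣ P1 := by
    refine h.cop fun b => ⟨-(D (D b) * (U0 c D * (P1 + D (D c))) +
      D (D (D b)) * (U0 c D ^ 2 * U1 c D)), ?_⟩
    apply hd.cancel
    linear_combination h1 b + (- D b - D (D b) * c * U0 c D) * hP1 - D (D b) * c * U0 c D * h4
  exact ⟨P, by rw [hP1, hP]; ring⟩

variable (hd : Der σ c D) (hm : J D ≤ maximalIdeal A) {P : A} (hP : 1 + U0 c D + U0 c D * U1 c D = c ^ 2 * P)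
include hd hm

theorem resD (a : A) : residue A (D a) = 0 := (residue_eq_zero_iff _).mpr (hd.Dmem hm a)

theorem res0 : residue A (U0 c D) = 1 := by
  rw [U0, map_add, map_one, resD hd hm, add_zero]

theorem res1 : residue A (U1 c D) = 1 := by
  rw [U1, map_add, map_mul, map_add, map_one, resD hd hm, resD hd hm, mul_zero, add_zero, add_zero]

theorem res2 : residue A (U2 c D) = 1 := by
  rw [U2, map_add, map_mul, res1 hd hm, resD hd hm, mul_zero, add_zero]

theorem resS : residue A (S c D P) = - residue A P := by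
  rw [S, map_mul, map_mul, map_neg, map_pow, res1 hd hm, res2 hd hm]; ring

theorem resQ : residue A (Q c D P) = residue A c * residue A (S c D P) := by
  rw [resS hd hm, Q, map_mul, map_neg, map_add, map_mul, resD hd hm, res2 hd hm]; ring

include hP in
theorem resC : residue A c ^ 2 * residue A (S c D P) = -3 := by
  have h1 := congrArg (residue A) hP
  simp only [map_add, map_mul, map_one, map_pow, res0 hd hm, res1 hd hm] at h1
  rw [resS hd hm]
  linear_combination h1

end threeStd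

section cases

variable [IsLocalRing A] [IsDomain A] {ℓ : ℕ} {σ : A →+* A} {c : A} {D : A → A}

theorem Std.hfix (hℓ : ℓ = 2 ∨ ℓ = 3) (h : Std ℓ σ c D) (a : A) : ∃ b, σ b = b ∧ a - b ∈ maximalIdeal A := by
  rcases hℓ with rfl | rfl
  · exact fix_two h.pt (fun a => h.der.sub_mem h.nt a) a
  · exact fix_three h.pt (fun a => h.der.sub_mem h.nt a) a

theorem Std.mem_sq (hℓ : ℓ = 2 ∨ ℓ = 3) (h : Std ℓ σ c D) {z : A} (hz : z ∈ maximalIdeal A)
    (hDz : D z ∈ maximalIdeal A * J D) : z ∈ maximalIdeal A ^ 2 := by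
  have := h.pt.reg
  obtain ⟨x, y, hxy⟩ := Dix.RegTwoDim.exists_span_pair h.pt.dim
  exact h.der.mem_sq h.nt (h.hfix hℓ) hxy h.np hz hDz

theorem Std.J_eq_max (hℓ : ℓ = 2 ∨ ℓ = 3) (h : Std ℓ σ c D)
    (hJ2 : ∀ z ∈ J D, z ∈ maximalIdeal A ^ 2 → z ∈ maximalIdeal A * J D) : J D = maximalIdeal A := by
  have := h.pt.reg
  obtain ⟨x, y, hxy⟩ := Dix.RegTwoDim.exists_span_pair h.pt.dim
  exact h.der.J_eq_max h.nt (h.hfix hℓ) hxy h.np hJ2

theorem mJ_le (hm : J D ≤ maximalIdeal A) : maximalIdeal A * J D ≤ maximalIdeal A ^ 2 := by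
  rw [pow_two]; exact Ideal.mul_mono_right hm

/-- An element of `J` whose square of the operator is controlled. -/
theorem D_J (hd : Der σ c D) (hm : J D ≤ maximalIdeal A) (e : A) (he : ∀ a, D (D a) - e * D a ∈ maximalIdeal A * J D) :
    ∀ z ∈ J D, D z - e * z ∈ maximalIdeal A * J D := by
  intro z hz
  have hz' := hz
  refine Submodule.span_induction (p := fun z _ => z ∈ J D → D z - e * z ∈ maximalIdeal A * J D) ?_ ?_ ?_ ?_ hz hz'
  · rintro _ ⟨a, rfl⟩ _; exact he a
  · intro _; rw [hd.zero, mul_zero, sub_zero]; exact zero_mem _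
  · intro a b ha hb iha ihb _
    rw [hd.add, show D a + D b - e * (a + b) = (D a - e * a) + (D b - e * b) by ring]
    exact add_mem (iha ha) (ihb hb)
  · intro r a ha ih _
    rw [smul_eq_mul, show D (r * a) - e * (r * a) = (D (r * a) - r * D a) + r * (D a - e * a) by ring]
    exact add_mem (hd.D_smul_J hm r ha) (Ideal.mul_mem_left _ _ (ih ha))

/-- Order two: `J = m` or `J ⊆ m²`; in the first case `D` is scalar on `m / m²`. -/
theorem two_dic (h : Std 2 σ c D) (hJ : ¬ J D ≤ maximalIdeal A ^ 2) {x y : A}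
    (hxy : maximalIdeal A = Ideal.span {x, y}) : x * D y - y * D x ∈ maximalIdeal A ^ 3 := by
  have hd := h.der
  have hm := h.nt
  obtain ⟨e, he⟩ := two_h h
  have hu : IsUnit e := by
    by_contra hu
    have hu' : e ∈ maximalIdeal A := hu
    apply hJ
    rw [J, Ideal.span_le]
    rintro _ ⟨a, rfl⟩
    refine h.mem_sq (Or.inl rfl) (hd.Dmem hm a) ?_
    rw [he]
    exact Ideal.mul_mem_mul hu' (mem_J D a)
  obtain ⟨v, hv⟩ := hu.exists_left_inv
  have h1 := D_J hd hm e (fun a => by rw [he, sub_self]; exact zero_mem _)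
  have hJm : J D = maximalIdeal A := by
    refine h.J_eq_max (Or.inl rfl) fun z hz hz2 => ?_
    have h2 := hd.D_pow hm 1 z hz2
    rw [pow_one] at h2
    have h3 := Ideal.sub_mem _ h2 (h1 z hz)
    rw [sub_sub_cancel] at h3
    have h4 : z = v * (e * z) := by linear_combination (-z) * hv
    rw [h4]
    exact Ideal.mul_mem_left _ _ h3
  have hx := Der.xmem hxy
  have hy := Der.ymem hxy
  have h2 := h1 y (by rw [hJm]; exact hy)
  have h3 := h1 x (by rw [hJm]; exact hx)
  rw [hJm, ← pow_two] at h2 h3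
  rw [show x * D y - y * D x = x * (D y - e * y) - y * (D x - e * x) by ring, pow_succ' _ 2]
  exact Ideal.sub_mem _ (Ideal.mul_mem_mul hx h2) (Ideal.mul_mem_mul hy h3)

/-- Order three, case A: `s` a unit implies `J = m`. -/
theorem three_A (h : Std 3 σ c D) {P : A} (hP : 1 + U0 c D + U0 c D * U1 c D = c ^ 2 * P)
    (hS : IsUnit (S c D P)) : J D = maximalIdeal A := by
  have hd := h.der
  have hm := h.nt
  have hσ : ∀ a, σ (σ (σ a)) = a := fun a => h.pt.pow a
  have h3 := three_eq hd hσ hP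
  have hq := sigQ hd hσ hP
  have hs := sigS hd hσ hP
  obtain ⟨v, hv⟩ := hS.exists_left_inv
  refine h.J_eq_max (Or.inr rfl) fun z hz hz2 => ?_
  -- `D (D z) - q D z - s z ∈ m J` for `z ∈ J`
  have key : ∀ z ∈ J D, D (D z) - Q c D P * D z - S c D P * z ∈ maximalIdeal A * J D := by
    intro z hz
    have hz' := hz
    refine Submodule.span_induction (p := fun z _ => z ∈ J D →
      D (D z) - Q c D P * D z - S c D P * z ∈ maximalIdeal A * J D) ?_ ?_ ?_ ?_ hz hz'
    · rintro _ ⟨a, rfl⟩ _; rw [h3, show Q c D P * D (D a) + S c D P * D a - Q c D P * D (D a) - S c D P * D a = 0 by ring]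
      exact zero_mem _
    · intro _; rw [hd.zero, hd.zero, mul_zero, mul_zero, sub_zero, sub_zero]; exact zero_mem _
    · intro a b ha hb iha ihb _
      rw [hd.add, hd.add, show D (D a) + D (D b) - Q c D P * (D a + D b) - S c D P * (a + b) =
        (D (D a) - Q c D P * D a - S c D P * a) + (D (D b) - Q c D P * D b - S c D P * b) by ring]
      exact add_mem (iha ha) (ihb hb)
    · intro r a ha ih _
      have e1 := hd.D_smul_J hm r ha
      have e2 := hd.D_mJ hm _ e1
      have e3 := hd.D_smul_J hm r (mem_J D a)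
      rw [hd.sub] at e2
      rw [smul_eq_mul, show D (D (r * a)) - Q c D P * D (r * a) - S c D P * (r * a) =
        (D (D (r * a)) - D (r * D a)) + (D (r * D a) - r * D (D a)) - Q c D P * (D (r * a) - r * D a) +
        r * (D (D a) - Q c D P * D a - S c D P * a) by ring]
      exact add_mem (Ideal.sub_mem _ (add_mem e2 e3) (Ideal.mul_mem_left _ _ e1)) (Ideal.mul_mem_left _ _ (ih ha))
  have h2 := hd.D_pow hm 1 z hz2
  rw [pow_one] at h2
  have h4 := hd.D_mJ hm _ h2
  have h5 := key z hz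
  have h6 : z = v * ((D (D z) - Q c D P * D z) - (D (D z) - Q c D P * D z - S c D P * z)) := by
    linear_combination (-z) * hv
  rw [h6]
  exact Ideal.mul_mem_left _ _ (Ideal.sub_mem _ (Ideal.sub_mem _ h4 (Ideal.mul_mem_left _ _ h2)) h5)

/-- Either some `z` has `m = (z, D z)`, or `x D y - y D x ∈ m³`. -/
theorem dichotomy (hd : Der σ c D) (hm : J D ≤ maximalIdeal A) {x y : A}
    (hxy : maximalIdeal A = Ideal.span {x, y}) :
    (∃ z, maximalIdeal A = Ideal.span {z, D z}) ∨ x * D y - y * D x ∈ maximalIdeal A ^ 3 := by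
  have hx := Der.xmem hxy
  have hy := Der.ymem hxy
  have hDx := hd.Dmem hm x
  have hDy := hd.Dmem hm y
  rw [hxy] at hDx hDy
  obtain ⟨a, b, hab⟩ := Ideal.mem_span_pair.mp hDx
  obtain ⟨a', b', hab'⟩ := Ideal.mem_span_pair.mp hDy
  have gen : ∀ z w : A, z ∈ maximalIdeal A → x ∈ Ideal.span {z, D z} → y ∈ Ideal.span {z, D z} →
      maximalIdeal A = Ideal.span {z, D z} := by
    intro z w hz h1 h2
    apply le_antisymm
    · have hle : ∀ K : Ideal A, x ∈ K → y ∈ K → maximalIdeal A ≤ K := by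
        intro K h1 h2
        rw [hxy, Ideal.span_le]
        rintro _ (rfl | rfl)
        · exact h1
        · exact h2
      exact hle _ h1 h2
    · rw [Ideal.span_le]
      rintro _ (rfl | rfl)
      · exact hz
      · exact hd.Dmem hm z
  by_cases hb : IsUnit b
  · left
    obtain ⟨v, hv⟩ := hb.exists_left_inv
    refine ⟨x, gen x x hx (Ideal.subset_span (by simp)) (Ideal.mem_span_pair.mpr ⟨-v * a, v, ?_⟩)⟩
    rw [← hab]; linear_combination y * hv
  by_cases ha' : IsUnit a'
  · left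
    obtain ⟨v, hv⟩ := ha'.exists_left_inv
    refine ⟨y, gen y y hy (Ideal.mem_span_pair.mpr ⟨-v * b', v, ?_⟩) (Ideal.subset_span (by simp))⟩
    rw [← hab']; linear_combination x * hv
  by_cases hc : IsUnit (b + b' - a - a')
  · left
    obtain ⟨v, hv⟩ := hc.exists_left_inv
    have hD : D (x + y) = (a + a') * (x + y) + (b + b' - a - a') * y := by rw [hd.add, ← hab, ← hab']; ring
    have hy' : y ∈ Ideal.span {x + y, D (x + y)} := by
      refine Ideal.mem_span_pair.mpr ⟨-v * (a + a'), v, ?_⟩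
      rw [hD]; linear_combination y * hv
    refine ⟨x + y, gen _ x (add_mem hx hy) ?_ hy'⟩
    have h1 : x + y ∈ Ideal.span {x + y, D (x + y)} := Ideal.subset_span (by simp)
    have h2 := Ideal.sub_mem _ h1 hy'
    rwa [add_sub_cancel_right] at h2
  right
  have hb1 : b ∈ maximalIdeal A := hb
  have ha1 : a' ∈ maximalIdeal A := ha'
  have hc1 : b + b' - a - a' ∈ maximalIdeal A := hc
  have hd1 : b' - a ∈ maximalIdeal A := by
    have := add_mem (Ideal.sub_mem _ hc1 hb1) ha1
    rwa [show b + b' - a - a' - b + a' = b' - a by ring] at this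
  rw [show x * D y - y * D x = a' * (x * x) + (b' - a) * (x * y) - b * (y * y) by rw [← hab, ← hab']; ring,
    show (3 : ℕ) = 1 + 1 + 1 from rfl, add_assoc, pow_add, pow_one, show 1 + 1 = 2 from rfl, pow_two]
  exact Ideal.sub_mem _ (add_mem (Ideal.mul_mem_mul ha1 (Ideal.mul_mem_mul hx hx))
    (Ideal.mul_mem_mul hd1 (Ideal.mul_mem_mul hx hy))) (Ideal.mul_mem_mul hb1 (Ideal.mul_mem_mul hy hy))

/-- The fixed element `D² z - q D z - s z`. -/
theorem three_e (h : Std 3 σ c D) {P : A} (hP : 1 + U0 c D + U0 c D * U1 c D = c ^ 2 * P)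
    {z : A} (hz : z ∈ maximalIdeal A) :
    D (D (D z) - Q c D P * D z - S c D P * z) = 0 ∧ D (D z) - Q c D P * D z - S c D P * z ∈ maximalIdeal A ^ 2 := by
  have hd := h.der
  have hm := h.nt
  have hσ : ∀ a, σ (σ (σ a)) = a := fun a => h.pt.pow a
  have h3 := three_eq hd hσ hP
  have hq := sigQ hd hσ hP
  have hs := sigS hd hσ hP
  have h1 : D (D (D z) - Q c D P * D z - S c D P * z) = 0 := by
    rw [hd.sub, hd.sub, hd.fixmul hq, hd.fixmul hs, h3]; ring
  refine ⟨h1, h.mem_sq (Or.inr rfl) ?_ (by rw [h1]; exact zero_mem _)⟩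
  exact Ideal.sub_mem _ (Ideal.sub_mem _ (hd.Dmem hm _) (Ideal.mul_mem_left _ _ (hd.Dmem hm _))) (Ideal.mul_mem_left _ _ hz)

/-- Order three, case B. -/
theorem three_B (h : Std 3 σ c D) {P : A} (hP : 1 + U0 c D + U0 c D * U1 c D = c ^ 2 * P)
    (hS : S c D P ∈ maximalIdeal A) (hJ : ¬ J D ≤ maximalIdeal A ^ 2) :
    ∃ y, maximalIdeal A = Ideal.span {D y, y} := by
  have hd := h.der
  have hm := h.nt
  have := h.pt.reg
  have hσ : ∀ a, σ (σ (σ a)) = a := fun a => h.pt.pow a
  obtain ⟨x₀, y₀, hxy₀⟩ := Dix.RegTwoDim.exists_span_pair h.pt.dim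
  have hJe := hd.J_eq hm (h.hfix (Or.inr rfl)) hxy₀
  obtain ⟨x, y, hxy, hDy⟩ : ∃ x y, maximalIdeal A = Ideal.span {x, y} ∧ D y ∉ maximalIdeal A ^ 2 := by
    by_cases hy : D y₀ ∈ maximalIdeal A ^ 2
    · refine ⟨y₀, x₀, by rw [hxy₀, Set.pair_comm], fun hx => hJ ?_⟩
      rw [hJe, Ideal.span_le]
      rintro _ (rfl | rfl)
      · exact hx
      · exact hy
    · exact ⟨x₀, y₀, hxy₀, hy⟩
  have hx := Der.xmem hxy
  have hy := Der.ymem hxy
  have hDm := hd.Dmem hm y
  rw [hxy] at hDm
  obtain ⟨a, b, hab⟩ := Ideal.mem_span_pair.mp hDm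
  have hSm := hS
  have hQm : Q c D P ∈ maximalIdeal A := by
    rw [← residue_eq_zero_iff] at hS ⊢
    rw [resQ hd hm, hS, mul_zero]
  have h3 := three_eq hd hσ hP
  refine ⟨y, ?_⟩
  by_cases ha : IsUnit a
  · obtain ⟨v, hv⟩ := ha.exists_left_inv
    apply le_antisymm
    · have hle : ∀ K : Ideal A, x ∈ K → y ∈ K → maximalIdeal A ≤ K := by
        intro K h1 h2
        rw [hxy, Ideal.span_le]
        rintro _ (rfl | rfl)
        · exact h1
        · exact h2
      refine hle _ (Ideal.mem_span_pair.mpr ⟨v, -v * b, ?_⟩) (Ideal.subset_span (by simp))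
      rw [← hab]; linear_combination x * hv
    · rw [Ideal.span_le]
      rintro _ (rfl | rfl)
      · exact hd.Dmem hm y
      · exact hy
  exfalso
  have ha1 : a ∈ maximalIdeal A := ha
  by_cases hb : IsUnit b
  · -- `D³ y ≡ b³ y`
    have step : ∀ z ∈ maximalIdeal A, D z - b * z ∈ maximalIdeal A ^ 2 →
        D (D z) - b * D z ∈ maximalIdeal A ^ 2 := by
      intro z hz h1
      have h2 := mJ_le hm (hd.D_pow hm 1 _ h1 |> fun h => by rwa [pow_one] at h)
      have h4 := mJ_le hm (hd.D_smul_sub hm b hz)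
      rw [hd.sub] at h2
      have h5 := add_mem h2 h4
      rwa [sub_add_sub_cancel] at h5
    have e1 : D y - b * y ∈ maximalIdeal A ^ 2 := by
      rw [show D y - b * y = a * x by rw [← hab]; ring, pow_two]
      exact Ideal.mul_mem_mul ha1 hx
    have e2 := step y hy e1
    have e3 := step (D y) (hd.Dmem hm y) e2
    have e4 : D (D (D y)) ∈ maximalIdeal A ^ 2 := by
      rw [h3, pow_two]
      exact add_mem (Ideal.mul_mem_mul hQm (hd.Dmem hm _)) (Ideal.mul_mem_mul hSm (hd.Dmem hm _))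
    have e5 : b * b * D y ∈ maximalIdeal A ^ 2 := by
      have := Ideal.sub_mem _ (Ideal.sub_mem _ e4 e3) (Ideal.mul_mem_left _ b e2)
      rwa [show D (D (D y)) - (D (D (D y)) - b * D (D y)) - b * (D (D y) - b * D y) = b * b * D y by ring] at this
    obtain ⟨v, hv⟩ := hb.exists_left_inv
    apply hDy
    have h6 := Ideal.mul_mem_left _ (v * v) e5
    rwa [show v * v * (b * b * D y) = D y by linear_combination (v * b * D y + D y) * hv] at h6
  · apply hDy
    rw [← hab, pow_two]
    exact add_mem (Ideal.mul_mem_mul ha1 hx) (Ideal.mul_mem_mul hb hy)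

end cases

end Groth.Agent.Models.K804.LocEll
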